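import Cfsg.Agent.H720.KS.Kill
import Cfsg.Agent.H695.KKL.Bad
import Cfsg.Agent.CTwoTab.BInst
import Cfsg.Agent.BabyComp.Main
import Cfsg.Agent.BabyComp.Par

/-!
# S4577, the row of the Baby Monster (helper189)

* `le_of_subnormal` : normal 2-subgroups of normal subgroups of `C(R)`, `R ≤ D`, are in `D`.
* `kill_sec` : `t ∈ D`, `X₀` of index at most 2 in `C(t)`, `σ : X₀ → E` onto with kernel `⟨t⟩`, the centralizers of the
  involutions of `E` of characteristic 2, `32 ∣ |X|`: no configuration.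
* `Bad16`, `bad16_of_large` : the 16-versions of `H695/KKL/Bad`.
* `E_B`.
-/

set_option autoImplicit false
set_option maxRecDepth 100000
set_option linter.unusedSectionVars false

open Subgroup Cfsg Cfsg.Agent.H613.KS

namespace Cfsg.Agent.H189.KS.B

universe u v

section gen

variable {X : Type*} [Group X] [Finite X]

/-- normal 2-subgroups of normal subgroups of `C(R)`, `R ≤ D` -/
theorem le_of_subnormal {D : Subgroup X} {x : X} (h : Cfg D x) {R : Subgroup X} (hR : R ≤ D) (H₀ : Subgroup X)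
    (hH : H₀ ≤ centralizer (R : Set X))
    (hHn : ∀ c ∈ centralizer (R : Set X), ∀ h ∈ H₀, c * h * c⁻¹ ∈ H₀) {N : Subgroup X} (hN2 : IsPGroup 2 N)
    (hNH : N ≤ H₀) (hNn : ∀ h ∈ H₀, ∀ n ∈ N, h * n * h⁻¹ ∈ N) : N ≤ D := by
  have : Fact (Nat.Prime 2) := ⟨Nat.prime_two⟩
  have hNnormal : (N.subgroupOf H₀).Normal := by
    refine ⟨fun n hn g => ?_⟩
    rw [mem_subgroupOf] at hn ⊢
    exact hNn g g.2 _ hn
  have hle : N.subgroupOf H₀ ≤ pCore 2 H₀ :=
    Cfsg.Agent.Lib.Cores.le_pCore hNnormal hN2.comap_subtype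
  have hNle : N ≤ (pCore 2 H₀).map H₀.subtype := by
    intro n hn
    exact ⟨⟨n, hNH hn⟩, hle (mem_subgroupOf.2 hn), rfl⟩
  refine hNle.trans (h.rad R hR _ ?_ ?_ ?_)
  · exact (Cfsg.Agent.Lib.Cores.pCore_isPGroup 2).map _
  · exact (map_subtype_le _).trans hH
  · rintro c hc _ ⟨⟨n, hn0⟩, hn, rfl⟩
    let φ : H₀ ≃* H₀ :=
      { toFun := fun h => ⟨c * h * c⁻¹, hHn c hc h h.2⟩
        invFun := fun h => ⟨c⁻¹ * h * c, by
          have := hHn c⁻¹ (inv_mem hc) h h.2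
          rwa [inv_inv] at this⟩
        left_inv := fun h => Subtype.ext (by show c⁻¹ * (c * (h : X) * c⁻¹) * c = h; group)
        right_inv := fun h => Subtype.ext (by show c * (c⁻¹ * (h : X) * c) * c⁻¹ = h; group)
        map_mul' := fun a b => Subtype.ext (by
          show c * ((a : X) * b) * c⁻¹ = c * a * c⁻¹ * (c * b * c⁻¹); group) }
    have hchar : (pCore 2 H₀).Characteristic := Cfsg.Agent.Lib.Cores.pCore_characteristic 2
    refine ⟨φ ⟨n, hn0⟩, ?_, rfl⟩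
    have h1 := (characteristic_iff_le_comap.1 hchar) φ hn
    exact h1

/-- **The criterion**: `C(t)` is a double cover of a group in which the centralizers of involutions are of
characteristic 2, extended by at most 2. -/
theorem kill_sec {E : Type*} [Group E] [Finite E] {D : Subgroup X} {x : X} (h : Cfg D x) (h32 : 32 ∣ Nat.card X)
    {t : X} {X₀ : Subgroup X} {σ : ↥X₀ →* E} (htt : t * t = 1) (htX : t ∈ X₀) (hcom : ∀ m ∈ X₀, m * t = t * m)
    (hnrm : ∀ g, g * t = t * g → ∀ m ∈ X₀, g * m * g⁻¹ ∈ X₀) (hsurj : Function.Surjective σ)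
    (hker : ∀ m : ↥X₀, σ m = 1 ↔ (m : X) = 1 ∨ (m : X) = t) (ht : t ∈ D) (ht1 : t ≠ 1)
    (hidx : ∀ a b, a * t = t * a → b * t = t * b → a ∉ X₀ → b ∉ X₀ → a * b ∈ X₀)
    (hE : ∀ v : E, orderOf v = 2 → IsOfCharacteristicTwo ↥(centralizer ({v} : Set E))) : False := by
  have hxt : x * t = t * x := (h.comm t ht).symm
  have hpowodd : ∀ r : X, r * r = 1 → ∀ n : ℕ, Odd n → r ^ n = 1 → r = 1 := by
    rintro r hr n ⟨k, rfl⟩ hn
    rwa [pow_succ, pow_mul, pow_two, hr, one_pow, one_mul] at hn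
  -- `x ∈ X₀`
  have hx0 : x ∈ X₀ := by
    by_contra hn
    have h2 := hidx x x hxt hxt hn hn
    obtain ⟨k, hk⟩ := h.odd
    apply hn
    have h3 : x = (x * x) ^ (k + 1) := by
      rw [← pow_two, ← pow_mul, show 2 * (k + 1) = 2 * k + 1 + 1 by ring, ← hk, pow_succ, pow_orderOf_eq_one, one_mul]
    rw [h3]
    exact X₀.pow_mem h2 _
  -- an element `e ∈ D ∩ X₀`
  obtain ⟨y, hy⟩ := h.five
  obtain ⟨e, heD, heX, he1, het⟩ : ∃ e ∈ D, e ∈ X₀ ∧ e ≠ 1 ∧ e ≠ t := by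
    obtain ⟨b, hbD, -, hb1, hbt, c, hcD, -, hc1, hct, hcb, hbc⟩ :=
      H720.KS.exists_three h.e16 hy (T := Set.univ) (fun _ _ => trivial) ht trivial ht1
    by_cases hbX : b ∈ X₀
    · exact ⟨b, hbD, hbX, hb1, hbt⟩
    by_cases hcX : c ∈ X₀
    · exact ⟨c, hcD, hcX, hc1, hct⟩
    refine ⟨b * c, D.mul_mem hbD hcD, hidx b c (H720.KS.comm_D h hbD ht) (H720.KS.comm_D h hcD ht) hbX hcX, ?_, ?_⟩
    · intro h1
      apply hcb
      have h2 := h.e16.inv b hbD
      exact mul_left_cancel (h1.trans h2.symm)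
    · intro h1
      apply hbc
      rw [mul_assoc, h1, htt]
  have hee : e * e = 1 := h.e16.inv e heD
  have hei : e⁻¹ = e := inv_eq_of_mul_eq_one_left hee
  have hxe : x * e = e * x := (h.comm e heD).symm
  obtain ⟨v, hv⟩ : ∃ v, v = σ ⟨e, heX⟩ := ⟨_, rfl⟩
  have hv2 : orderOf v = 2 := by
    refine orderOf_eq_prime ?_ ?_
    · rw [hv, pow_two, ← map_mul]
      exact (hker _).2 (Or.inl hee)
    · rw [hv]
      intro h1
      rcases (hker _).1 h1 with h2 | h2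
      · exact he1 h2
      · exact het h2
  have hC := hE v hv2
  have hPn : (pCore 2 ↥(centralizer ({v} : Set E))).Normal := Cfsg.Agent.Lib.Cores.pCore_normal 2
  have hP2 : IsPGroup 2 ↥(pCore 2 ↥(centralizer ({v} : Set E))) := Cfsg.Agent.Lib.Cores.pCore_isPGroup 2
  -- the subgroup
  let P : Subgroup E := (pCore 2 ↥(centralizer ({v} : Set E))).map (centralizer ({v} : Set E)).subtype
  have hPconj : ∀ g : E, g * v = v * g → ∀ p ∈ P, g * p * g⁻¹ ∈ P := by
    rintro g hg _ ⟨p, hp, rfl⟩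
    exact ⟨⟨g, mem_centralizer_singleton_iff.2 hg⟩ * p * ⟨g, mem_centralizer_singleton_iff.2 hg⟩⁻¹,
      hPn.conj_mem p hp _, rfl⟩
  let N : Subgroup X := (P.comap σ).map X₀.subtype ⊓ centralizer ({e} : Set X)
  have hNmem : ∀ m (hm : m ∈ X₀), σ ⟨m, hm⟩ ∈ P → m * e = e * m → m ∈ N := fun m hm h1 h2 =>
    ⟨⟨⟨m, hm⟩, h1, rfl⟩, mem_centralizer_singleton_iff.2 h2⟩
  have hcen : ∀ c : X, c ∈ centralizer ((closure ({t, e} : Set X) : Subgroup X) : Set X) ↔
      c * t = t * c ∧ c * e = e * c := by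
    intro c
    rw [centralizer_closure, mem_centralizer_iff]
    constructor
    · intro hc
      exact ⟨(hc t (Or.inl rfl)).symm, (hc e (Or.inr rfl)).symm⟩
    · rintro ⟨h1, h2⟩ y (rfl | rfl)
      · exact h1.symm
      · exact h2.symm
  have hND : N ≤ D := by
    refine le_of_subnormal h (R := closure {t, e}) ?_ (X₀ ⊓ centralizer ({e} : Set X)) ?_ ?_ ?_ ?_ ?_
    · rw [closure_le]
      rintro r (rfl | rfl)
      · exact ht
      · exact heD
    · rintro c ⟨hc1, hc2⟩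
      exact (hcen c).2 ⟨hcom c hc1, mem_centralizer_singleton_iff.1 hc2⟩
    · rintro c hc m ⟨hm1, hm2⟩
      obtain ⟨hc1, hc2⟩ := (hcen c).1 hc
      have hc3 : c ∈ centralizer ({e} : Set X) := mem_centralizer_singleton_iff.2 hc2
      exact ⟨hnrm c hc1 m hm1, Subgroup.mul_mem _ (Subgroup.mul_mem _ hc3 hm2) (Subgroup.inv_mem _ hc3)⟩
    · rintro ⟨_, ⟨⟨m, hm, rfl⟩, -⟩⟩
      obtain ⟨p, hp, hpm⟩ := hm
      obtain ⟨k, hk⟩ := hP2 ⟨p, hp⟩
      have hk' : (p : E) ^ 2 ^ k = 1 := congrArg (fun w => ((w : ↥(centralizer ({v} : Set E))) : E))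
        (congrArg Subtype.val hk)
      have h1 : σ (m ^ 2 ^ k) = 1 := by
        rw [map_pow, ← hpm]
        exact hk'
      refine ⟨k + 1, Subtype.ext ?_⟩
      show (m : X) ^ 2 ^ (k + 1) = 1
      rw [pow_succ, pow_mul, pow_two]
      rcases (hker _).1 h1 with h2 | h2
      · have h3 : (m : X) ^ 2 ^ k = 1 := h2
        rw [h3, one_mul]
      · have h3 : (m : X) ^ 2 ^ k = t := h2
        rw [h3, htt]
    · rintro _ ⟨⟨m, hm, rfl⟩, h2⟩
      exact ⟨m.2, h2⟩
    · rintro c ⟨hc1, hc2⟩ _ ⟨⟨m, hm, rfl⟩, h2⟩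
      refine ⟨⟨⟨c, hc1⟩ * m * ⟨c, hc1⟩⁻¹, ?_, rfl⟩,
        Subgroup.mul_mem _ (Subgroup.mul_mem _ hc2 h2) (Subgroup.inv_mem _ hc2)⟩
      show σ _ ∈ P
      rw [map_mul, map_mul, map_inv]
      refine hPconj _ ?_ _ hm
      rw [hv, ← map_mul, ← map_mul]
      congr 1
      exact Subtype.ext (mem_centralizer_singleton_iff.1 hc2)
  -- the image of `x`
  have hxv : σ ⟨x, hx0⟩ * v = v * σ ⟨x, hx0⟩ := by
    rw [hv, ← map_mul, ← map_mul]
    congr 1
    exact Subtype.ext hxe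
  have hkey : ∀ p ∈ P, σ ⟨x, hx0⟩ * p = p * σ ⟨x, hx0⟩ := by
    intro p hp
    obtain ⟨⟨m, hm⟩, hmp⟩ := hsurj p
    -- `m` and `e`
    have hpv : p * v = v * p := by
      obtain ⟨p', -, rfl⟩ := hp
      exact mem_centralizer_singleton_iff.1 p'.2
    have hme : m * e = e * m ∨ m * e = e * m * t := by
      have h1 : σ (⟨m, hm⟩ * ⟨e, heX⟩ * (⟨e, heX⟩ * ⟨m, hm⟩)⁻¹) = 1 := by
        rw [map_mul, map_mul, map_inv, map_mul, hmp, ← hv, hpv, mul_inv_cancel]
      rcases (hker _).1 h1 with h2 | h2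
      · left
        have h3 : m * e * (e * m)⁻¹ = 1 := h2
        exact mul_inv_eq_one.1 h3
      · right
        have h3 : m * e * (e * m)⁻¹ = t := h2
        have h4 : m * e = t * (e * m) := by rw [← h3]; group
        rw [h4]
        exact (hcom _ (X₀.mul_mem heX hm)).symm
    obtain ⟨r, hr⟩ : ∃ r, r = x * m * x⁻¹ * m⁻¹ := ⟨_, rfl⟩
    have hrX : r ∈ X₀ := by
      rw [hr]
      exact X₀.mul_mem (X₀.mul_mem (X₀.mul_mem hx0 hm) (X₀.inv_mem hx0)) (X₀.inv_mem hm)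
    have hre : r * e = e * r := by
      have hcx : e * x * e⁻¹ = x := by rw [← hxe]; group
      have hem : e * m * e⁻¹ = m ∨ e * m * e⁻¹ = t * m := by
        rcases hme with h1 | h1
        · left
          rw [← h1]; group
        · right
          have h2 : e * m = m * e * t := by
            rw [h1, mul_assoc, htt, mul_one]
          have h3 : m * e * t = t * m * e := by
            rw [hcom _ (X₀.mul_mem hm heX), mul_assoc]
          rw [h2, h3]; group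
      have h1 : e * r * e⁻¹ = r := by
        have h2 : e * r * e⁻¹ = (e * x * e⁻¹) * (e * m * e⁻¹) * (e * x * e⁻¹)⁻¹ * (e * m * e⁻¹)⁻¹ := by
          rw [hr]; group
        rw [h2, hcx]
        rcases hem with h3 | h3
        · rw [h3, ← hr]
        · rw [h3]
          have h4 : x * (t * m) * x⁻¹ * (t * m)⁻¹ = (x * t) * m * x⁻¹ * m⁻¹ * t⁻¹ := by group
          rw [h4, hxt]
          have h5 : t * x * m * x⁻¹ * m⁻¹ * t⁻¹ = t * (x * m * x⁻¹ * m⁻¹) * t⁻¹ := by group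
          rw [h5, ← hr, ← hcom r hrX]; group
      calc r * e = e * r * e⁻¹ * e := by rw [h1]
        _ = e * r := by group
    have hrP : σ ⟨r, hrX⟩ ∈ P := by
      have h1 : (⟨r, hrX⟩ : ↥X₀) = ⟨x, hx0⟩ * ⟨m, hm⟩ * ⟨x, hx0⟩⁻¹ * ⟨m, hm⟩⁻¹ := Subtype.ext hr
      rw [h1, map_mul, map_mul, map_mul, map_inv, map_inv, hmp]
      exact P.mul_mem (hPconj _ hxv p hp) (P.inv_mem hp)
    have hrD : r ∈ D := hND (hNmem r hrX hrP hre)
    have hxr : r * x = x * r := h.comm r hrD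
    have hpow : ∀ n : ℕ, x ^ n * m * (x ^ n)⁻¹ = r ^ n * m := by
      intro n
      induction n with
      | zero => simp
      | succ n ih =>
        have h1 : x ^ (n + 1) * m * (x ^ (n + 1))⁻¹ = x * (x ^ n * m * (x ^ n)⁻¹) * x⁻¹ := by
          rw [pow_succ']; group
        have h2 : x * r ^ n = r ^ n * x := ((show Commute x r from hxr.symm).pow_right n).eq
        have h3 : x * m * x⁻¹ = r * m := by rw [hr]; group
        rw [h1, ih]
        calc x * (r ^ n * m) * x⁻¹ = (x * r ^ n) * m * x⁻¹ := by group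
          _ = r ^ n * (x * m * x⁻¹) := by rw [h2]; group
          _ = r ^ (n + 1) * m := by rw [h3, pow_succ]; group
    have h1 := hpow (orderOf x)
    rw [pow_orderOf_eq_one, one_mul, inv_one, mul_one] at h1
    have h2 : r ^ orderOf x = 1 := (mul_eq_right.1 h1.symm)
    have h3 := hpowodd r (h.e16.inv r hrD) _ h.odd h2
    have h4 : x * m = m * x := by
      rw [h3] at hr
      have h5 : x * m * x⁻¹ * m⁻¹ = 1 := hr.symm
      calc x * m = (x * m * x⁻¹ * m⁻¹) * m * x := by group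
        _ = m * x := by rw [h5, one_mul]
    rw [← hmp, ← map_mul, ← map_mul]
    congr 1
    exact Subtype.ext h4
  -- `x` is trivial
  have h1 : (⟨σ ⟨x, hx0⟩, mem_centralizer_singleton_iff.2 hxv⟩ : ↥(centralizer ({v} : Set E))) ∈
      pCore 2 ↥(centralizer ({v} : Set E)) := by
    refine hC ?_
    rw [mem_centralizer_iff]
    intro p hp
    exact Subtype.ext (hkey _ ⟨p, hp, rfl⟩).symm
  obtain ⟨k, hk⟩ := hP2 ⟨_, h1⟩
  have hk' : (σ ⟨x, hx0⟩) ^ 2 ^ k = 1 := congrArg (fun w => ((w : ↥(centralizer ({v} : Set E))) : E))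
    (congrArg Subtype.val hk)
  have h2 : x ^ 2 ^ (k + 1) = 1 := by
    rw [← map_pow] at hk'
    rw [pow_succ, pow_mul, pow_two]
    rcases (hker _).1 hk' with h3 | h3
    · have h4 : x ^ 2 ^ k = 1 := h3
      rw [h4, one_mul]
    · have h4 : x ^ 2 ^ k = t := h3
      rw [h4, htt]
  exact H720.KS.ne_one_of_dvd h h32 (H720.KS.eq_one_of_two h h2)

/-- `C(u)` has a normal 2-subgroup which has more than 16 elements or contains an element with the property `P` -/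
def Bad16 (P : X → Prop) (u : X) : Prop :=
  ∃ N : Subgroup X, IsPGroup 2 N ∧ N ≤ centralizer {u} ∧
    (∀ c ∈ centralizer ({u} : Set X), ∀ n ∈ N, c * n * c⁻¹ ∈ N) ∧ (16 < Nat.card N ∨ ∃ n ∈ N, P n)

theorem Bad16.of_conj {P : X → Prop} (hP : ∀ g s, P s → P (g * s * g⁻¹)) {u : X} (h : Bad16 P u) (g : X) :
    Bad16 P (g * u * g⁻¹) := by
  obtain ⟨N, h1, h2, h3, h4⟩ := h
  have hcm : ∀ c : X, c ∈ centralizer ({g * u * g⁻¹} : Set X) → g⁻¹ * c * g ∈ centralizer ({u} : Set X) := by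
    intro c hc
    rw [mem_centralizer_singleton_iff] at hc ⊢
    calc g⁻¹ * c * g * u = g⁻¹ * (c * (g * u * g⁻¹)) * g := by group
      _ = g⁻¹ * (g * u * g⁻¹ * c) * g := by rw [hc]
      _ = u * (g⁻¹ * c * g) := by group
  refine ⟨N.map (MulAut.conj g).toMonoidHom, h1.map _, ?_, ?_, ?_⟩
  · rintro _ ⟨n, hn, rfl⟩
    have := mem_centralizer_singleton_iff.1 (h2 hn)
    rw [mem_centralizer_singleton_iff]
    show g * n * g⁻¹ * (g * u * g⁻¹) = g * u * g⁻¹ * (g * n * g⁻¹)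
    calc g * n * g⁻¹ * (g * u * g⁻¹) = g * (n * u) * g⁻¹ := by group
      _ = g * (u * n) * g⁻¹ := by rw [this]
      _ = _ := by group
  · rintro c hc _ ⟨n, hn, rfl⟩
    refine ⟨g⁻¹ * c * g * n * (g⁻¹ * c * g)⁻¹, h3 _ (hcm c hc) n hn, ?_⟩
    show g * (g⁻¹ * c * g * n * (g⁻¹ * c * g)⁻¹) * g⁻¹ = c * (g * n * g⁻¹) * c⁻¹
    group
  · rcases h4 with h4 | ⟨n, hn, hPn⟩
    · left
      rwa [Nat.card_congr (N.equivMapOfInjective _ (MulAut.conj g).injective).toEquiv.symm]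
    · right
      exact ⟨g * n * g⁻¹, ⟨n, hn, rfl⟩, hP g n hPn⟩

theorem Bad16.exists_mem {P : X → Prop} {D : Subgroup X} {x : X} (h : Cfg D x) {u : X} (hu : u ∈ D)
    (hb : Bad16 P u) : ∃ n ∈ D, P n := by
  obtain ⟨N, h1, h2, h3, h4⟩ := hb
  rcases h4 with h4 | ⟨n, hn, hPn⟩
  · exact absurd (H720.KS.kill_card h hu h1 h2 h3 h4) id
  · exact ⟨n, H720.KS.le_D h hu h1 h2 h3 hn, hPn⟩

theorem bad16_pair {T : Set X} (HT : BabyComp.Pair.Trans T) {u d : X} (hu : u * u = 1) (hu1 : u ≠ 1) (hd : d ∈ T)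
    (hc : u * d = d * u) (hud : u * d ∈ T) : Bad16 (fun s => s ∈ T) u := by
  obtain ⟨N, hN, hN2, hdN⟩ := BabyComp.Pair.exists_normal HT hu hu1 hd hc hud
  refine ⟨N.map (centralizer ({u} : Set X)).subtype, hN2.map _, map_subtype_le _, ?_, Or.inr ⟨d, ⟨_, hdN, rfl⟩, hd⟩⟩
  rintro c hc _ ⟨n, hn, rfl⟩
  exact ⟨⟨c, hc⟩ * n * ⟨c, hc⟩⁻¹, hN.conj_mem n hn _, rfl⟩

end gen

section lift

variable {X B Γ : Type*} [Group X] [Group B] [Group Γ] [Finite X] [Finite B] [Finite Γ]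
  {q : B →* X} {τ : B}

open Cfsg.Agent.R01.Lifts

/-- `N` a normal 2-subgroup of `H₀`, `H₀` normal in `C(u)`. -/
theorem bad16_of_subnormal {P : X → Prop} {u : X} (H₀ : Subgroup X) (hH : H₀ ≤ centralizer {u})
    (hHn : ∀ c ∈ centralizer ({u} : Set X), ∀ h ∈ H₀, c * h * c⁻¹ ∈ H₀) {N : Subgroup X} (hN2 : IsPGroup 2 N)
    (hNH : N ≤ H₀) (hNn : ∀ h ∈ H₀, ∀ n ∈ N, h * n * h⁻¹ ∈ N) (hN : 16 < Nat.card N) : Bad16 P u := by
  have : Fact (Nat.Prime 2) := ⟨Nat.prime_two⟩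
  have hNnormal : (N.subgroupOf H₀).Normal := by
    refine ⟨fun n hn g => ?_⟩
    rw [mem_subgroupOf] at hn ⊢
    exact hNn g g.2 _ hn
  have hle : N.subgroupOf H₀ ≤ pCore 2 H₀ :=
    Cfsg.Agent.Lib.Cores.le_pCore hNnormal hN2.comap_subtype
  have hNle : N ≤ (pCore 2 H₀).map H₀.subtype := by
    intro n hn
    exact ⟨⟨n, hNH hn⟩, hle (mem_subgroupOf.2 hn), rfl⟩
  refine ⟨(pCore 2 H₀).map H₀.subtype, ?_, ?_, ?_, Or.inl ?_⟩
  · exact (Cfsg.Agent.Lib.Cores.pCore_isPGroup 2).map _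
  · exact (map_subtype_le _).trans hH
  · rintro c hc _ ⟨⟨n, hn0⟩, hn, rfl⟩
    let φ : H₀ ≃* H₀ :=
      { toFun := fun h => ⟨c * h * c⁻¹, hHn c hc h h.2⟩
        invFun := fun h => ⟨c⁻¹ * h * c, by
          have := hHn c⁻¹ (inv_mem hc) h h.2
          rwa [inv_inv] at this⟩
        left_inv := fun h => Subtype.ext (by show c⁻¹ * (c * (h : X) * c⁻¹) * c = h; group)
        right_inv := fun h => Subtype.ext (by show c * (c⁻¹ * (h : X) * c) * c⁻¹ = h; group)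
        map_mul' := fun a b => Subtype.ext (by
          show c * ((a : X) * b) * c⁻¹ = c * a * c⁻¹ * (c * b * c⁻¹); group) }
    have hchar : (pCore 2 H₀).Characteristic := Cfsg.Agent.Lib.Cores.pCore_characteristic 2
    refine ⟨φ ⟨n, hn0⟩, ?_, rfl⟩
    have h1 := (characteristic_iff_le_comap.1 hchar) φ hn
    exact h1
  · have : Finite ((pCore 2 H₀).map H₀.subtype : Subgroup X) := inferInstance
    exact hN.trans_le (card_le_of_le hNle)

/-- **The lift** (16-version of `H695.KKL.bad_of_lift`). -/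
theorem bad16_of_lift (hq : Ext q τ) {θ : B →* Γ} (hθ : Function.Injective θ)
    (hr : ∀ x : Γ, x * θ τ = θ τ * x → ∃ b, θ b = x)
    {v w : B} (hvw : w = v ∨ w = v * τ) {Q : Subgroup Γ} (hQ : IsPGroup 2 Q)
    (hn : ∀ x, x * θ w = θ w * x → ∀ r ∈ Q, x * r * x⁻¹ ∈ Q)
    (hQw : ∀ r ∈ Q, r * θ w = θ w * r)
    (hsq : ∀ r ∈ Q, r * r = 1 ∨ r * r = θ w) (hww : θ w * θ w = 1)
    (hcard : 2 ^ 12 ≤ Nat.card Q) (P : X → Prop) : Bad16 P (q v) := by
  have hqv : q w = q v := by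
    rcases hvw with rfl | rfl
    · rfl
    · rw [map_mul, hq.mapz, mul_one]
  rw [← hqv]
  clear hvw hqv v
  let R₀ : Subgroup B := Q.comap θ
  have hR₀ : ∀ r ∈ R₀, r * w = w * r := by
    intro r hr'
    apply hθ
    rw [map_mul, map_mul]
    exact hQw _ hr'
  have hnR : ∀ b : B, b * w = w * b → ∀ r ∈ R₀, b * r * b⁻¹ ∈ R₀ := by
    intro b hb r hr'
    show θ (b * r * b⁻¹) ∈ Q
    rw [map_mul, map_mul, map_inv]
    exact hn (θ b) (by rw [← map_mul, hb, map_mul]) _ hr'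
  have hR2 : IsPGroup 2 R₀ := by
    intro r
    obtain ⟨n, hn'⟩ := hQ ⟨θ r, r.2⟩
    refine ⟨n, Subtype.ext ?_⟩
    have h2 : θ r ^ 2 ^ n = 1 := congrArg Subtype.val hn'
    rw [← map_pow] at h2
    exact hθ (h2.trans (map_one θ).symm)
  -- the order
  have hττ : θ τ * θ τ = 1 := by rw [← map_mul, hq.zz, map_one]
  have hτw : θ τ * θ w = θ w * θ τ := by rw [← map_mul, ← map_mul, hq.comm]
  have h1 := H695.KKL.fix_card (Q := Q) hww hQw hsq hτw hττ (hn _ hτw) rfl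
  have hmap : Q ⊓ centralizer ({θ τ} : Set Γ) = R₀.map θ := by
    ext x
    constructor
    · rintro ⟨hx, hxc⟩
      obtain ⟨b, rfl⟩ := hr x (mem_centralizer_singleton_iff.1 hxc)
      exact ⟨b, hx, rfl⟩
    · rintro ⟨b, hb, rfl⟩
      refine ⟨hb, mem_centralizer_singleton_iff.2 ?_⟩
      rw [← map_mul, ← map_mul, hq.comm]
  have hcR : Nat.card ↥(Q ⊓ centralizer ({θ τ} : Set Γ)) = Nat.card R₀ := by
    rw [hmap]
    exact (Nat.card_congr (R₀.equivMapOfInjective θ hθ).toEquiv).symm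
  rw [hcR] at h1
  -- the image
  have hker : Nat.card R₀ ≤ 2 * Nat.card (R₀.map q) := by
    classical
    -- count by fibres
    have : Fintype R₀ := Fintype.ofFinite _
    have : Fintype (R₀.map q) := Fintype.ofFinite _
    rw [Nat.card_eq_fintype_card, Nat.card_eq_fintype_card]
    let f : R₀ → R₀.map q := fun r => ⟨q r, ⟨r, r.2, rfl⟩⟩
    have h2 := Finset.card_le_mul_card_image_of_maps_to (s := (Finset.univ : Finset R₀))
      (t := (Finset.univ : Finset (R₀.map q))) (f := f) (fun a _ => Finset.mem_univ _) 2 (by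
        intro y _
        by_cases hy : ∃ r, f r = y
        · obtain ⟨r, rfl⟩ := hy
          have hsub : (Finset.univ.filter fun x => f x = f r).image (fun x : R₀ => (x : B)) ⊆
              {(r : B), (r : B) * τ} := by
            intro b hb
            obtain ⟨x, hx, rfl⟩ := Finset.mem_image.1 hb
            have h3 : q x = q r := congrArg Subtype.val (Finset.mem_filter.1 hx).2
            rcases hq.map_eq.1 h3 with h4 | h4
            · rw [h4]; exact Finset.mem_insert_self _ _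
            · rw [h4]; exact Finset.mem_insert_of_mem (Finset.mem_singleton_self _)
          rw [← Finset.card_image_of_injective _ Subtype.val_injective]
          exact (Finset.card_le_card hsub).trans Finset.card_le_two
        · have : (Finset.univ.filter fun x => f x = y) = ∅ := by
            apply Finset.filter_eq_empty_iff.2
            intro x _ hx
            exact hy ⟨x, hx⟩
          rw [this]
          simp)
    rwa [Finset.card_univ, Finset.card_univ] at h2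
  have hbig : 16 < Nat.card (R₀.map q) := by
    by_contra hcon
    push Not at hcon
    have h3 : Nat.card R₀ ≤ 32 := by omega
    have h4 : Nat.card R₀ * Nat.card R₀ ≤ 32 * 32 := Nat.mul_le_mul h3 h3
    have h5 : Nat.card Q ≤ 2048 := by omega
    have h6 : (2 : ℕ) ^ 12 = 4096 := by norm_num
    omega
  refine bad16_of_subnormal ((centralizer ({w} : Set B)).map q) ?_ ?_ (hR2.map q) ?_ ?_ hbig
  · rintro _ ⟨b, hb, rfl⟩
    rw [SetLike.mem_coe, mem_centralizer_singleton_iff] at hb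
    rw [mem_centralizer_singleton_iff, ← map_mul, hb, map_mul]
  · rintro c hc _ ⟨b, hb, rfl⟩
    obtain ⟨c, rfl⟩ := hq.surj c
    rw [mem_centralizer_singleton_iff] at hc
    refine ⟨c * b * c⁻¹, ?_, by rw [map_mul, map_mul, map_inv]⟩
    rw [SetLike.mem_coe, mem_centralizer_singleton_iff] at hb ⊢
    -- `c⁻¹ w c` is `w` or `w τ`
    have h2 : c⁻¹ * w * c = w ∨ c⁻¹ * w * c = w * τ := by
      have h3 := hq.conj_of_commute (g := c⁻¹) (a := w) (by
        show q c⁻¹ * q w = q w * q c⁻¹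
        rw [map_inv, inv_mul_eq_iff_eq_mul, ← mul_assoc, hc, mul_assoc, mul_inv_cancel, mul_one])
      rwa [inv_inv] at h3
    have h4 : b * (c⁻¹ * w * c) = (c⁻¹ * w * c) * b := by
      rcases h2 with h2 | h2
      · rw [h2, hb]
      · rw [h2, ← mul_assoc, hb, mul_assoc, hq.comm b, mul_assoc]
    calc c * b * c⁻¹ * w = c * (b * (c⁻¹ * w * c)) * c⁻¹ := by group
      _ = c * ((c⁻¹ * w * c) * b) * c⁻¹ := by rw [h4]
      _ = w * (c * b * c⁻¹) := by group
  · rintro _ ⟨r, hr', rfl⟩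
    exact ⟨r, by rw [SetLike.mem_coe, mem_centralizer_singleton_iff]; exact hR₀ r hr', rfl⟩
  · rintro _ ⟨b, hb, rfl⟩ _ ⟨r, hr', rfl⟩
    rw [SetLike.mem_coe, mem_centralizer_singleton_iff] at hb
    exact ⟨b * r * b⁻¹, hnR b hb r hr', by rw [map_mul, map_mul, map_inv]⟩

open Cfsg.Agent.Co2Type.Quad

theorem bad16_of_large (hq : Ext q τ) {θ : B →* Γ}
    (hθ : Function.Injective θ) (hr : ∀ x : Γ, x * θ τ = θ τ * x → ∃ b, θ b = x) {Q : Subgroup Γ} {z : Γ}
    (hL : Large Q z) (hcard : 2 ^ 12 ≤ Nat.card Q) {v w : B} (hvw : w = v ∨ w = v * τ)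
    (hw : IsConj z (θ w)) (P : X → Prop) : Bad16 P (q v) := by
  obtain ⟨g, hg⟩ := isConj_iff.1 hw
  have hz : g⁻¹ * θ w * g = z := by rw [← hg]; group
  have hcomm : ∀ x : Γ, x * θ w = θ w * x → (g⁻¹ * x * g) * z = z * (g⁻¹ * x * g) := by
    intro x hx
    rw [← hz]
    calc g⁻¹ * x * g * (g⁻¹ * θ w * g) = g⁻¹ * (x * θ w) * g := by group
      _ = g⁻¹ * (θ w * x) * g := by rw [hx]
      _ = _ := by group
  have hmem : ∀ x : Γ, x ∈ Q.comap (MulAut.conj g⁻¹).toMonoidHom ↔ g⁻¹ * x * g ∈ Q := by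
    intro x
    show g⁻¹ * x * g⁻¹⁻¹ ∈ Q ↔ _
    rw [inv_inv]
  refine bad16_of_lift hq hθ hr hvw (Q := Q.comap (MulAut.conj g⁻¹).toMonoidHom) ?_ ?_ ?_ ?_ ?_ ?_ P
  · rintro ⟨x, hx⟩
    rw [hmem] at hx
    refine ⟨2, Subtype.ext ?_⟩
    show x ^ 2 ^ 2 = 1
    have h1 : (g⁻¹ * x * g) ^ 4 = 1 := by
      rcases hL.sq _ hx with h2 | h2
      · rw [show (4 : ℕ) = 2 * 2 by norm_num, pow_mul, pow_two (g⁻¹ * x * g), h2, one_pow]
      · rw [show (4 : ℕ) = 2 * 2 by norm_num, pow_mul, pow_two (g⁻¹ * x * g), h2, pow_two, hL.z_sq]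
    have h2 : (g⁻¹ * x * g) ^ 4 = g⁻¹ * x ^ 4 * g := by
      have := conj_pow (a := g⁻¹) (b := x) (i := 4)
      rwa [inv_inv] at this
    rw [h2] at h1
    have h3 : x ^ 4 = g * (g⁻¹ * x ^ 4 * g) * g⁻¹ := by group
    rw [show (2 : ℕ) ^ 2 = 4 by norm_num, h3, h1]
    group
  · intro x hx r hr'
    rw [hmem] at hr' ⊢
    have h1 := hL.conj_mem _ (hcomm x hx) _ hr'
    have h2 : g⁻¹ * (x * r * x⁻¹) * g = g⁻¹ * x * g * (g⁻¹ * r * g) * (g⁻¹ * x * g)⁻¹ := by group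
    rwa [h2]
  · intro r hr'
    rw [hmem] at hr'
    have h1 := hL.comm_z _ hr'
    rw [← hz] at h1
    calc r * θ w = g * (g⁻¹ * r * g * (g⁻¹ * θ w * g)) * g⁻¹ := by group
      _ = g * (g⁻¹ * θ w * g * (g⁻¹ * r * g)) * g⁻¹ := by rw [h1]
      _ = θ w * r := by group
  · intro r hr'
    rw [hmem] at hr'
    have h2 : r * r = g * (g⁻¹ * r * g * (g⁻¹ * r * g)) * g⁻¹ := by group
    rcases hL.sq _ hr' with h1 | h1
    · left
      rw [h2, h1]; group
    · right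
      rw [h2, h1, hg]
  · have h2 : θ w * θ w = g * (g⁻¹ * θ w * g * (g⁻¹ * θ w * g)) * g⁻¹ := by group
    rw [h2, hz, hL.z_sq]; group
  · refine hcard.trans_eq ?_
    refine Nat.card_congr ⟨fun x => ⟨g * x * g⁻¹, ?_⟩, fun x => ⟨g⁻¹ * x * g, ?_⟩, ?_, ?_⟩
    · rw [hmem]
      have : g⁻¹ * (g * (x : Γ) * g⁻¹) * g = x := by group
      rw [this]
      exact x.2
    · exact (hmem x).1 x.2
    · intro x
      apply Subtype.ext
      show g⁻¹ * (g * (x : Γ) * g⁻¹) * g = x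
      group
    · intro x
      apply Subtype.ext
      show g * (g⁻¹ * (x : Γ) * g) * g⁻¹ = x
      group

end lift

section all

open Cfsg.Agent.CTwoTab Cfsg.Agent.BabyComp Cfsg.Agent.BabyComp.Main
open Cfsg.Agent.R01.Lifts Cfsg.Agent.MonsterN Cfsg.Agent.MonsterN.Lit
open Cfsg.Agent.Bimonster

variable {B : Type*} {X : Type u} {E : Type v} [Group B] [Group X] [Group E] [Finite B] [Finite X] [Finite E]
  {q : B →* X} {τ : B} {R : Set E}
variable {y : ℕ → B} {h : Pre y} {π : KK y →* E} {f₁ f₂ f₃ f₄ : B}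

/-- **All the involutions.** -/
theorem bad16_all [IsSimpleGroup E] {Γ : Type*} [Group Γ] [Finite Γ] (hq : Ext q τ) (h10 : y 10 = τ) (D : KD h R π)
    (Fc : FusionType.Facts τ f₁ f₂ f₃ f₄) {θ : B →* Γ} {z : Γ}
    (hθ : Function.Injective θ) (hr : ∀ x : Γ, x * θ τ = θ τ * x → ∃ b, θ b = x)
    (hcz : IsConj z (θ (τ * (f₁ * f₂)))) (hcd : IsConj z (θ (f₁ * f₂ * f₃)))
    {Q : Subgroup Γ} (hL : Cfsg.Agent.Co2Type.Quad.Large Q z) (hcard : 2 ^ 12 ≤ Nat.card Q)
    (hc5 : IsConj f₁ (y 5)) (big : KEq.Big B τ (y 5))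
    {F : Type*} [Field F] [Fintype F] {hF : Fintype.card F = 2 ^ 2}
    (hR : Cfsg.Agent.BabyU.RootCfg.RootFacts hF R) (hX : Cfsg.Agent.BabyU.Key.Extra hF R)
    (Rt : Cfsg.Agent.BabyU.Lab.Roots E R)
    {M₁ : Subgroup X} (Bs : Base (q (y 5)) M₁) (u : X) (huu : u * u = 1) (hu1 : u ≠ 1) :
    IsConj (q (y 5)) u ∨ Bad16 (fun s => IsConj (q (y 5)) s) u := by
  obtain ⟨σ, hσ⟩ := exists_sigma hq h10 D
  have H := data hq h10 D big hσ
  have hP : ∀ g s, IsConj (q (y 5)) s → IsConj (q (y 5)) (g * s * g⁻¹) :=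
    fun g s hs => hs.trans (isConj_iff.2 ⟨g, rfl⟩)
  rcases Bs.classes u huu hu1 with ⟨g, hg⟩ | ⟨d, hd, hc, hud⟩
  · -- case I
    obtain ⟨k, hk, hqk⟩ := M_le hq h10 big Bs _ hg
    have hgu : u = g * q k * g⁻¹ := by rw [hqk]; group
    rw [hgu]
    have hkk : k * k = 1 := by
      refine lift_sq hR hX Rt hq h10 D hk ?_
      rw [hqk]
      calc g⁻¹ * u * g * (g⁻¹ * u * g) = g⁻¹ * (u * u) * g := by group
        _ = 1 := by rw [huu]; group
    have hqk1 : q k ≠ 1 := by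
      intro e
      apply hu1
      rw [hgu, e]; group
    have hk1 : k ≠ 1 := fun e => hqk1 (by rw [e, map_one])
    have hkτ : k ≠ τ := fun e => hqk1 (by rw [e, hq.mapz])
    rcases Fc.classes k hkk hk1 hkτ with h1 | h1 | h1 | h1
    · left
      exact (q.map_isConj (hc5.symm.trans h1)).trans (isConj_iff.2 ⟨g, rfl⟩)
    · right
      refine Bad16.of_conj hP ?_ g
      refine bad16_of_large hq hθ hr hL hcard (v := k) (w := k * τ) (Or.inr rfl) ?_ _
      refine hcz.trans (θ.map_isConj ?_)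
      rw [hq.comm]
      exact FusionType.conj_mul_t Fc.cen h1
    · right
      refine Bad16.of_conj hP ?_ g
      exact bad16_of_large hq hθ hr hL hcard (v := k) (w := k) (Or.inl rfl) (hcz.trans (θ.map_isConj h1)) _
    · right
      refine Bad16.of_conj hP ?_ g
      exact bad16_of_large hq hθ hr hL hcard (v := k) (w := k) (Or.inl rfl) (hcd.trans (θ.map_isConj h1)) _
  · -- case II
    right
    exact bad16_pair (Bs.trans H.t_sq H.t_ne) huu hu1 hd hc hud

/-- the section at `t = q (y 5)` kills `t ∈ D` -/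
theorem kill_t (hq : Ext q τ) (h10 : y 10 = τ) (D : KD h R π) (big : KEq.Big B τ (y 5))
    {M₁ : Subgroup X} (Bs : Base (q (y 5)) M₁) (h32 : 32 ∣ Nat.card X)
    (hE : ∀ v : E, orderOf v = 2 → IsOfCharacteristicTwo ↥(centralizer ({v} : Set E)))
    {V : Subgroup X} {x : X} (hc : Cfg V x) (ht : q (y 5) ∈ V) : False := by
  obtain ⟨σ, hσ⟩ := exists_sigma hq h10 D
  have H := data hq h10 D big hσ
  have hM : M₁ ≤ (KK y).map q := by
    intro m hm
    obtain ⟨k, hk, hqk⟩ := M_le hq h10 big Bs m hm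
    exact ⟨k, hk, hqk⟩
  exact kill_sec hc h32 H.t_sq H.mem H.comm H.nrm H.surj H.ker ht H.t_ne
    (fun a b ha hb hna hnb => hM (Bs.M_index a b ha hb (fun h1 => hna (hM h1)) fun h1 => hnb (hM h1))) hE

end all

section final

open Cfsg Cfsg.Lie Cfsg.Agent.Bimonster Cfsg.Agent.BabyU Cfsg.Agent.TwoESix.Cover
open Cfsg.Agent.MonsterX Cfsg.Agent.MonsterX.Space Cfsg.Agent.MonsterX.Conc Cfsg.Agent.MonsterX.Model
open Cfsg.Agent.MonsterX.InstData Cfsg.Agent.MonsterX.MainPack Cfsg.Agent.MonsterU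
open Cfsg.Agent.MonsterP Cfsg.Agent.MonsterP.NodeData Cfsg.Agent.MonsterP.NodesConj Cfsg.Agent.CTwoTab.BInst
open Cfsg.Agent.MonsterX.KSide Cfsg.Agent.MonsterX.KLift Cfsg.Agent.MonsterX.KModel
open Cfsg.Agent.MonsterX.MainBasic Cfsg.Agent.MonsterU.Assembly Cfsg.Agent.MonsterN Cfsg.Agent.MonsterN.Lit

theorem noCfg0 : NoCfg Spor.BabyMonster := by
  refine elim ?_
  intro K _ _ hK hF _ _ _ _ q y h π f₁ f₂ f₃ f₄ M₁ hq h10 DK Fc hz hcz hcd hL hc5 big hq5 hcard5 Bs hr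
  have hcardQ : 2 ^ 12 ≤ Nat.card (InstData.M.Q.subgroupOf InstData.M.G) := by
    have h1 : Nat.card (InstData.M.Q.subgroupOf InstData.M.G) = 2 ^ 25 := by
      rw [← all.hG.Q_card]
      exact Nat.card_congr (Subgroup.subgroupOfEquivOfLe (all.hG.Q_le.trans C_le)).toEquiv
    rw [h1]
    norm_num
  have h32 : 32 ∣ Nat.card Spor.BabyMonster := by
    rw [(S1704.result : Cfsg.IsB Cfsg.Spor.BabyMonster).2]
    norm_num
  have hall := bad16_all (E := twistedE6 K 2) (hF := hF) hq h10 DK Fc Subtype.val_injective hr hcz hcd hL hcardQ hc5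
    big (Cfsg.Agent.TwoESix.LeviG.rootFacts hK hF) (Cfsg.Agent.BabyU.KeyInst.extra hF)
    (Cfsg.Agent.TwoESix.RootsInst.roots K hF) Bs
  intro D x hc
  -- a conjugate of `q (y 5)` in `D`
  obtain ⟨n, hnD, hn⟩ : ∃ n ∈ D, IsConj (q (y 5)) n := by
    obtain ⟨u, hu, hu1, huu⟩ := H720.KS.exists_inv hc
    rcases hall u huu hu1 with h1 | h1
    · exact ⟨u, hu, h1⟩
    · exact h1.exists_mem hc hu
  obtain ⟨g, hg⟩ := isConj_iff.1 hn.symm
  have hc' := H720.KS.cfg_map (MulAut.conj g) hc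
  refine kill_t hq h10 DK big Bs h32 (BabyComp.EFacts.charTwo K hK) hc' ?_
  exact ⟨n, hnD, hg⟩

/-- **The Baby Monster.** -/
theorem E_B {S : Type u} [Group S] [Finite S] (h : Spor.IsoB S) : NoCfg S := by
  obtain ⟨e⟩ := h
  exact H720.KS.noCfg_congr e noCfg0

end final

end Cfsg.Agent.H189.KS.B

namespace Cfsg.Agent.H189.KS

universe u

/-- **S4577, the row of the Baby Monster.** -/
theorem E_B {S : Type u} [Group S] [Finite S] (h : Cfsg.Spor.IsoB S) : Cfsg.Agent.H613.KS.NoCfg S := B.E_B h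

end Cfsg.Agent.H189.KS
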