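import Cfsg.Agent.H825.KS.Tools
import Cfsg.Agent.H831.FF.Trace
import Cfsg.Agent.CTwoTab.Co3
import Cfsg.Agent.H613.KKL.CoThreeAbs

/-!
# S4577, the row `Co₃` (helper189)

* `not_mem_A` : an involution with centralizer the non-split double cover of `Sp₆(2)` is not in `D` (S4546 version:
  `H613.KKL.CoThreeAbs`).
* `not_pure_B` : `D` is not purely of type 2B: the trace of an involution of type 2B on the Leech lattice is 0, and 16
  does not divide 24.
* `E_Co3`.
-/

set_option autoImplicit false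

open Subgroup Cfsg Cfsg.Agent.H613.KS

namespace Cfsg.Agent.H189.KS

universe u

/-- the 5-element moves every involution of `D` -/
theorem five_move {S : Type*} [Group S] {D : Subgroup S} (hE : E16 D) {y : S} (hy : Five D y) {t : S} (ht : t ∈ D)
    (ht1 : t ≠ 1) : y * t * y⁻¹ ≠ t := by
  intro h
  have h1 := hy.irr (closure {t}) ((closure_le D).2 (by rintro r rfl; exact ht)) (by
    intro a ha
    induction ha using closure_induction with
    | mem a ha =>
      rw [Set.mem_singleton_iff] at ha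
      subst ha
      rw [h]
      exact subset_closure rfl
    | one => rw [mul_one, mul_inv_cancel]; exact one_mem _
    | mul a b _ _ iha ihb =>
      have e : y * (a * b) * y⁻¹ = (y * a * y⁻¹) * (y * b * y⁻¹) := by group
      rw [e]
      exact mul_mem iha ihb
    | inv a _ iha =>
      have e : y * a⁻¹ * y⁻¹ = (y * a * y⁻¹)⁻¹ := by group
      rw [e]
      exact inv_mem iha)
  rcases h1 with h1 | h1
  · have h2 : t ∈ closure ({t} : Set S) := subset_closure rfl
    rw [h1] at h2
    exact ht1 (mem_bot.1 h2)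
  · have h2 : Nat.card (closure ({t} : Set S)) ≤ 2 := by
      rw [← zpowers_eq_closure, Nat.card_zpowers]
      exact orderOf_le_of_pow_eq_one (by norm_num) (by rw [pow_two]; exact hE.inv t ht)
    rw [h1, hE.card] at h2
    omega

section typeA

open Cfsg.Agent.H613.KKL.CoThreeAbs
open Cfsg.Agent.SporRec.TwoSp6.Cox Cfsg.Agent.SporRec.TwoSp6.Sp Cfsg.Agent.SporRec.TwoSp6.Lift
  Cfsg.Agent.SporRec.TwoSp6.Main Cfsg.Agent.SporRec.TwoSp6.Invol Cfsg.Agent.SporRec.TwoSp6.CInvol
open Cfsg.Agent.SporRec.Co3.Fusion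

variable {G : Type*} [Group G] {t : G} {π : centralizer ({t} : Set G) →* S}

/-- **no involution with centralizer `2·Sp₆(2)` in `D`** -/
theorem not_mem_A (N : NS (tC t) π) {D : Subgroup G} {x : G} (h : Cfg D x) : t ∉ D := by
  intro ht
  have ht1 : t ≠ 1 := t_ne N
  -- a further involution
  obtain ⟨y, hy⟩ := h.five
  obtain ⟨a, haD, hat, hca⟩ : ∃ a ∈ D, a ≠ t ∧ ∃ g : G, g * t * g⁻¹ = a :=
    ⟨y * t * y⁻¹, (hy.norm t).2 ht, five_move h.e16 hy ht ht1, y, rfl⟩
  obtain ⟨g, hg⟩ := hca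
  have hcomm := H825.KS.cfg_comm h a haD t ht
  have hA : InA π a := by
    rcases fused_cases N (g := g) (by rw [hg]; exact hcomm) with h1 | h1
    · rw [hg] at h1
      exact absurd h1 hat
    · rwa [hg] at h1
  obtain ⟨ha, u, w, hu, hw, hne, ho, e⟩ := hA
  have huw : u + w ≠ 0 := add_ne_zero' hne
  -- the normal 2-subgroup
  have hR : closure ({t, a} : Set G) ≤ D := by
    rw [closure_le]
    rintro y (rfl | rfl)
    · exact ht
    · exact haD
  have hcen : ∀ c : G, c ∈ centralizer ((closure ({t, a} : Set G) : Subgroup G) : Set G) ↔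
      c * t = t * c ∧ c * a = a * c := by
    intro c
    rw [centralizer_closure, mem_centralizer_iff]
    constructor
    · intro hc
      exact ⟨(hc t (Or.inl rfl)).symm, (hc a (Or.inr rfl)).symm⟩
    · rintro ⟨h1, h2⟩ y (rfl | rfl)
      · exact h1.symm
      · exact h2.symm
  let M : Subgroup G := ((T3 u w).comap π).map (centralizer ({t} : Set G)).subtype ⊓ centralizer ({a} : Set G)
  have hM2 : IsPGroup 2 M := by
    rintro ⟨n, ⟨⟨c, hc, rfl⟩, -⟩⟩
    refine ⟨2, Subtype.ext ?_⟩
    have h1 : π (c * c) = 1 := by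
      rw [map_mul]
      exact T3_sq ho hc
    have h2 : (c * c) * (c * c) = 1 := by
      rcases N.ker _ h1 with h3 | h3
      · rw [h3, one_mul]
      · rw [h3]; exact N.z_sq
    show (c : G) ^ 2 ^ 2 = 1
    have h3 : ((c : G) * c) * (c * c) = 1 := congrArg Subtype.val h2
    have h5 : ∀ y : G, (y * y) * (y * y) = 1 → y ^ 2 ^ 2 = 1 := by
      intro y hy
      rw [← hy, show (2 : ℕ) ^ 2 = 4 from rfl, pow_succ, pow_succ, pow_succ, pow_one]
      group
    exact h5 _ h3
  have hMle : M ≤ centralizer ((closure ({t, a} : Set G) : Subgroup G) : Set G) := by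
    rintro n ⟨⟨c, hc, rfl⟩, hn2⟩
    rw [hcen]
    exact ⟨mem_cent.1 c.2, mem_centralizer_singleton_iff.1 hn2⟩
  have hMn : ∀ c ∈ centralizer ((closure ({t, a} : Set G) : Subgroup G) : Set G), ∀ n ∈ M, c * n * c⁻¹ ∈ M := by
    rintro c hc n ⟨⟨m, hm, rfl⟩, hn2⟩
    obtain ⟨hc1, hc2⟩ := (hcen c).1 hc
    refine ⟨⟨⟨c, mem_cent.2 hc1⟩ * m * ⟨c, mem_cent.2 hc1⟩⁻¹, ?_, rfl⟩, ?_⟩
    · show π _ ∈ T3 u w
      rw [map_mul, map_mul, map_inv]
      refine T3_conj hu hw hne ho ?_ hm
      rw [← e, ← map_mul, ← map_mul]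
      congr 1
      exact Subtype.ext hc2
    · have hn3 := mem_centralizer_singleton_iff.1 hn2
      have hcm : c ∈ centralizer ({a} : Set G) := mem_centralizer_singleton_iff.2 hc2
      exact Subgroup.mul_mem _ (Subgroup.mul_mem _ hcm hn2) (Subgroup.inv_mem _ hcm)
  have hMD := h.rad _ hR M hM2 hMle hMn
  -- an element of order 4
  obtain ⟨p, hp⟩ := N.surj (tr u)
  have hpa : p * ⟨a, ha⟩ = ⟨a, ha⟩ * p :=
    comm_three N hu hw hne huw (add_ne_left hw) ho (by rw [om_add, om_self, ho, add_zero]) e hp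
  have hpM : (p : G) ∈ M := by
    refine ⟨⟨p, ?_, rfl⟩, mem_centralizer_singleton_iff.2 (congrArg Subtype.val hpa)⟩
    show π p ∈ T3 u w
    rw [hp]
    exact tr_mem (Or.inl rfl)
  have h1 := h.e16.inv _ (hMD hpM)
  have h2 : (p : G) * p = t := congrArg Subtype.val (N.sq u hu p hp)
  exact ht1 (h2.symm.trans h1)

end typeA

section typeB

open Cfsg.Agent.SigZero.CoThreeB

theorem tr8_w0 : Co2Type.Mono.tr8 w0 = 0 := by
  unfold Co2Type.Mono.tr8
  have h1 : ∀ i : GolayPt, ((w0 • SporadicStructure.Co0Base.e8 i : leechLattice) : GolayPt → ℤ) i =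
      8 - 16 * (if i ∈ D then 1 else 0) := by
    intro i
    rw [w0_apply, SporadicStructure.Co0Base.e8_coe, Pi.single_eq_same]
    by_cases hi : i ∈ D
    · rw [if_pos hi, if_pos hi]; norm_num
    · rw [if_neg hi, if_neg hi]; norm_num
  have h2 : Fintype.card GolayPt = 24 := by decide
  rw [Finset.sum_congr rfl fun i _ => h1 i, Finset.sum_sub_distrib, Finset.sum_const, Finset.card_univ, h2,
    ← Finset.mul_sum, Finset.sum_ite_mem, Finset.univ_inter, Finset.sum_const, card_D]
  norm_num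

theorem tr8_one : Co2Type.Mono.tr8 1 = 192 := by
  unfold Co2Type.Mono.tr8
  have h : ∀ i : GolayPt, (((1 : Co0) • SporadicStructure.Co0Base.e8 i : leechLattice) : GolayPt → ℤ) i = 8 := by
    intro i
    rw [one_smul, SporadicStructure.Co0Base.e8_coe, Pi.single_eq_same]
  have h2 : Fintype.card GolayPt = 24 := by decide
  rw [Finset.sum_congr rfl fun i _ => h i, Finset.sum_const, Finset.card_univ, h2]
  norm_num

/-- a subgroup of order 16 of `Co₃` is not purely of type 2B -/
theorem not_pure_B {A : Subgroup K} (hA : Nat.card A = 16) (h : ∀ a ∈ A, a ≠ 1 → IsConj wK a) : False := by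
  classical
  have : Finite A := Nat.finite_of_card_ne_zero (by rw [hA]; norm_num)
  let _ : Fintype A := Fintype.ofFinite A
  obtain ⟨f, hf⟩ := H831.FF.exists_sum (K.subtype.comp A.subtype)
  have h1 : ∀ a : A, Co2Type.Mono.tr8 ((K.subtype.comp A.subtype) a) = if a = 1 then 192 else 0 := by
    intro a
    by_cases ha : a = 1
    · rw [if_pos ha, ha, map_one]
      exact tr8_one
    · rw [if_neg ha]
      obtain ⟨g, hg⟩ := isConj_iff.1 (h a a.2 (fun h1 => ha (Subtype.ext h1)))
      have h2 : (K.subtype.comp A.subtype) a = (g : Co0) * w0 * (g : Co0)⁻¹ := (congrArg Subtype.val hg).symm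
      rw [h2, Co2Type.Mono.tr8_conj]
      exact tr8_w0
  rw [Finset.sum_congr rfl fun a _ => h1 a, Finset.sum_ite_eq' Finset.univ (1 : A) fun _ => (192 : ℤ),
    if_pos (Finset.mem_univ _), hA] at hf
  push_cast at hf
  omega

end typeB

open Cfsg.Agent.SporRec.Co3.Chain Cfsg.Agent.SporRec.Co3.Ident

theorem noCfg_G3 : NoCfg G3 := by
  intro D x h
  have hs : IsSimpleGroup G3 := isCo3_G3.1
  obtain ⟨π, N⟩ := KFacts.Co3D4.exists_NS_G3
  obtain ⟨e⟩ := SigZero.CoThree.exists_equiv
  have hw2 : e SigZero.CoThreeB.wK * e SigZero.CoThreeB.wK = 1 := by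
    rw [← map_mul, SigZero.CoThreeB.wK_sq, map_one]
  have hw1 : e SigZero.CoThreeB.wK ≠ 1 := fun h => SigZero.CoThreeB.wK_ne ((map_eq_one_iff e e.injective).1 h)
  have hmem : ∀ g : Subgroup.centralizer ({e SigZero.CoThreeB.wK} : Set G3), e.symm g ∈ SigZero.CoThreeB.C := by
    intro g
    rw [SigZero.CoThreeB.mem_C]
    apply e.injective
    rw [map_mul, map_mul, e.apply_symm_apply]
    exact Subgroup.mem_centralizer_singleton_iff.1 g.2
  have hmem' : ∀ g : SigZero.CoThreeB.C, e g ∈ Subgroup.centralizer ({e SigZero.CoThreeB.wK} : Set G3) := by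
    intro g
    rw [Subgroup.mem_centralizer_singleton_iff, ← map_mul, ← map_mul, SigZero.CoThreeB.mem_C.1 g.2]
  have hcard : Nat.card (Subgroup.centralizer ({e SigZero.CoThreeB.wK} : Set G3)) ≤ 2 * 95040 := by
    refine le_trans (le_of_eq ?_) SigZero.CoThree.card_C_le
    exact Nat.card_congr ⟨fun g => ⟨e.symm g, hmem g⟩, fun g => ⟨e g, hmem' g⟩,
      fun g => Subtype.ext (e.apply_symm_apply _), fun g => Subtype.ext (e.symm_apply_apply _)⟩
  -- the involutions of `D` are of type 2B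
  have hB : ∀ d ∈ D, d ≠ 1 → IsConj (e SigZero.CoThreeB.wK) d := by
    intro d hd hd1
    rcases SigZero.CoThree.classes hw2 hw1 hcard (h.e16.inv d hd) hd1 with ⟨g, hg⟩ | ⟨g, hg⟩
    · exfalso
      obtain ⟨D', x', h', hZ⟩ := H825.KS.exists_conj h hd (isConj_iff.2 ⟨g, hg⟩).symm
      exact not_mem_A N h' hZ
    · exact isConj_iff.2 ⟨g, hg⟩
  refine not_pure_B (A := D.map e.symm.toMonoidHom) ?_ ?_
  · rw [Subgroup.card_map_of_injective (f := e.symm.toMonoidHom) e.symm.injective, h.e16.card]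
  · rintro _ ⟨d, hd, rfl⟩ hd1
    have h1 : d ≠ 1 := by
      rintro rfl
      exact hd1 (map_one _)
    have h2 := e.symm.toMonoidHom.map_isConj (hB d hd h1)
    have h3 : e.symm.toMonoidHom (e SigZero.CoThreeB.wK) = SigZero.CoThreeB.wK := e.symm_apply_apply _
    rwa [h3] at h2

/-- **The row `Co₃`.** -/
theorem E_Co3 {S : Type u} [Group S] [Finite S] (h : Spor.IsoCo3 S) : NoCfg S := by
  obtain ⟨e⟩ := h
  exact H825.KS.noCfg_congr (e.trans SporRec.Co3.Model.equivCo3.symm) noCfg_G3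

end Cfsg.Agent.H189.KS
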